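import Cfsg.Agent.Lib.CyclicInter.Basic
import Cfsg.Prelude.Def_KGroupFacts

/-!
Almost simple groups with cyclic intersections of distinct Sylow 2-subgroups: the index of the
socle is odd as soon as every outer involution of the socle moves a suitable odd-order element.
-/

set_option autoImplicit false
set_option linter.style.haveILetI false

open Subgroup

namespace CfsgLib.CyclicInter

theorem mem_normalizer_of_conj_mem {G : Type*} [Group G] [Finite G] {V : Subgroup G} {s : G}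
    (h : ∀ v ∈ V, s * v * s⁻¹ ∈ V) : s ∈ normalizer (V : Set G) := by
  have hmap : V.map (MulAut.conj s).toMonoidHom = V := by
    refine eq_of_le_of_card_ge ?_ (card_map_of_injective (MulAut.conj s).injective).ge
    rintro _ ⟨v, hv, rfl⟩
    exact h v hv
  refine mem_normalizer_iff.2 fun v => ⟨h v, fun hv => ?_⟩
  rw [← hmap] at hv
  obtain ⟨w, hw, hwe⟩ := hv
  have : w = v := (MulAut.conj s).injective hwe
  exact this ▸ hw

/-- A 2-element and any further element normalising a noncyclic 2-subgroup have a 2-element as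
commutator. -/
theorem core {J : Type*} [Group J] [Finite J] (h : CycInter J) {V : Subgroup J}
    (hV : IsPGroup 2 V) (hVc : ¬ IsCyclic V) {s c : J} {k : ℕ} (hs : s ^ 2 ^ k = 1)
    (hsV : ∀ v ∈ V, s * v * s⁻¹ ∈ V) (hcV : ∀ v ∈ V, c * v * c⁻¹ ∈ V) :
    ∃ j : ℕ, (c * s * c⁻¹ * s⁻¹) ^ 2 ^ j = 1 := by
  haveI : Fact (Nat.Prime 2) := ⟨Nat.prime_two⟩
  have hz : IsPGroup 2 (zpowers s) := by
    obtain ⟨l, -, hl⟩ := (Nat.dvd_prime_pow Nat.prime_two).1 (orderOf_dvd_iff_pow_eq_one.2 hs)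
    exact IsPGroup.of_card (n := l) (by rw [Nat.card_zpowers, hl])
  obtain ⟨S, hS⟩ := (hz.to_sup_of_normal_right' hV
    (zpowers_le.2 (mem_normalizer_of_conj_mem hsV))).exists_le_sylow
  have hconj : ∀ {x : J}, x ∈ (S : Subgroup J) → c * x * c⁻¹ ∈ ((c • S : Sylow 2 J) : Subgroup J) := by
    intro x hx
    rw [Sylow.coe_subgroup_smul, show c * x * c⁻¹ = MulAut.conj c • x from rfl,
      smul_mem_pointwise_smul_iff]
    exact hx
  by_cases hcS : c • S = S
  · have h1 : c * s * c⁻¹ ∈ (S : Subgroup J) := by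
      have := hconj (hS (mem_sup_left (mem_zpowers s)))
      rwa [hcS] at this
    obtain ⟨j, hj⟩ := S.isPGroup'
      ⟨_, mul_mem h1 (inv_mem (hS (mem_sup_left (mem_zpowers s))))⟩
    exact ⟨j, congrArg Subtype.val hj⟩
  · exfalso
    have hle : V ≤ (S : Subgroup J) ⊓ ((c • S : Sylow 2 J) : Subgroup J) := by
      refine le_inf (le_sup_right.trans hS) fun v hv => ?_
      have h1 : c⁻¹ * v * c ∈ V := by
        have := (mem_normalizer_iff.1 (inv_mem (mem_normalizer_of_conj_mem hcV)) v).1 hv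
        rwa [inv_inv] at this
      have h2 := hconj (hS (mem_sup_right h1))
      rwa [show c * (c⁻¹ * v * c) * c⁻¹ = v by group] at h2
    haveI := h S (c • S) (Ne.symm hcS)
    exact hVc (isCyclic_of_injective (inclusion hle) (inclusion_injective _))

section Automorphisms

variable {M : Type*} [Group M] [Finite M]

/-- `σ` is a 2-element normalising a noncyclic 2-subgroup `V`, and an element normalising `V` has a
nontrivial odd-order commutator with it. -/
def Witness (σ : MulAut M) : Prop :=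
  ∃ (V : Subgroup M) (t : M) (k m : ℕ), σ ^ 2 ^ k = 1 ∧ IsPGroup 2 V ∧ ¬ IsCyclic V ∧
    (∀ v ∈ V, σ v ∈ V) ∧ (∀ v ∈ V, t * v * t⁻¹ ∈ V) ∧ Odd m ∧ (t * σ t⁻¹) ^ m = 1 ∧ t * σ t⁻¹ ≠ 1

theorem conj_aut (σ : MulAut M) (x : M) : σ * MulAut.conj x * σ⁻¹ = MulAut.conj (σ x) := by
  ext y
  simp [MulAut.conj_apply, map_mul, map_inv]

theorem not_cycInter_of_witness (hZ : center M = ⊥) {σ : MulAut M} (hW : Witness σ)
    {J : Subgroup (MulAut M)} (hI : Cfsg.Inn M ≤ J) (hσ : σ ∈ J) : ¬ CycInter J := by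
  intro hC
  obtain ⟨V, t, k, m, hk, hV, hVc, hσV, htV, hm, hdm, hd1⟩ := hW
  let ι : M →* J := MulAut.conj.codRestrict J fun x => hI ⟨x, rfl⟩
  have hι : Function.Injective ι := by
    refine (injective_iff_map_eq_one ι).2 fun x hx => ?_
    rw [← mem_bot, ← hZ, mem_center_iff]
    intro y
    have := DFunLike.congr_fun (congrArg Subtype.val hx) y
    simp only [ι, MonoidHom.codRestrict_apply, MulAut.conj_apply, OneMemClass.coe_one,
      MulAut.one_apply] at this
    exact (mul_inv_eq_iff_eq_mul.1 this).symm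
  have hs : ∀ x : M, (⟨σ, hσ⟩ : J) * ι x * (⟨σ, hσ⟩ : J)⁻¹ = ι (σ x) := fun x =>
    Subtype.ext (conj_aut σ x)
  obtain ⟨j, hj⟩ := core hC (hV.map ι)
    (fun hc => hVc ((equivMapOfInjective V ι hι).isCyclic.2 hc))
    (s := ⟨σ, hσ⟩) (c := ι t) (k := k) (Subtype.ext (by simpa using hk))
    (by
      rintro _ ⟨v, hv, rfl⟩
      rw [hs]
      exact mem_map_of_mem ι (hσV v hv))
    (by
      rintro _ ⟨v, hv, rfl⟩
      rw [← map_inv, ← map_mul, ← map_mul]
      exact mem_map_of_mem ι (htV v hv))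
  have he : ι t * ⟨σ, hσ⟩ * (ι t)⁻¹ * (⟨σ, hσ⟩ : J)⁻¹ = ι (t * σ t⁻¹) := by
    rw [map_mul, ← hs, map_inv]
    group
  rw [he, ← map_pow, ← map_one ι] at hj
  exact hd1 ((pow_gcd_eq_one.2 ⟨hdm, hι hj⟩).symm ▸ by
    rw [show Nat.gcd m (2 ^ j) = 1 from (Nat.coprime_two_right.2 hm).pow_right j, pow_one])

/-- No group between `Inn M` and `Aut M` of outer index two has cyclic intersections. -/
def Good (M : Type*) [Group M] : Prop :=
  center M = ⊥ → ∀ a : MulAut M, a ∉ Cfsg.Inn M → a ^ 2 ∈ Cfsg.Inn M →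
    ¬ CycInter ↥(Cfsg.Inn M ⊔ zpowers a)

theorem mk_orderOf_two {a : MulAut M} (ha : a ∉ Cfsg.Inn M) (ha2 : a ^ 2 ∈ Cfsg.Inn M) :
    orderOf (QuotientGroup.mk a : Cfsg.Out M) = 2 := by
  haveI : Fact (Nat.Prime 2) := ⟨Nat.prime_two⟩
  refine orderOf_eq_prime ?_ fun h => ha ((QuotientGroup.eq_one_iff a).1 h)
  rw [← QuotientGroup.mk_pow]
  exact (QuotientGroup.eq_one_iff _).2 ha2

theorem good_of_witness
    (hout : ∀ x y : Cfsg.Out M, orderOf x = 2 → orderOf y = 2 → IsConj x y) {σ : MulAut M}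
    (hσ : σ ∉ Cfsg.Inn M) (hσ2 : σ ^ 2 ∈ Cfsg.Inn M) (hW : Witness σ) : Good M := by
  intro hZ a ha ha2 hC
  obtain ⟨c, hc⟩ := isConj_iff.1 (hout _ _ (mk_orderOf_two ha ha2) (mk_orderOf_two hσ hσ2))
  obtain ⟨β, rfl⟩ := QuotientGroup.mk_surjective c
  rw [← QuotientGroup.mk_mul, ← QuotientGroup.mk_inv, ← QuotientGroup.mk_mul, QuotientGroup.eq] at hc
  let g : MulAut M →* MulAut M := (MulAut.conj β).toMonoidHom
  have hI : Cfsg.Inn M ≤ (Cfsg.Inn M ⊔ zpowers a).map g := by
    intro i hi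
    refine ⟨β⁻¹ * i * β, mem_sup_left (by
      simpa using (Cfsg.innNormal M).conj_mem i hi β⁻¹), ?_⟩
    simp [g, mul_assoc]
  refine not_cycInter_of_witness hZ hW hI ?_
    (hC.of_injective (equivMapOfInjective _ g (MulAut.conj β).injective).symm.toMonoidHom
      (MulEquiv.injective _))
  have h1 : β * a * β⁻¹ ∈ (Cfsg.Inn M ⊔ zpowers a).map g :=
    ⟨a, mem_sup_right (mem_zpowers a), rfl⟩
  have := mul_mem h1 (hI hc)
  rwa [mul_inv_cancel_left] at this

theorem good_of_no_involution (h : ¬ 2 ∣ Nat.card (Cfsg.Out M)) : Good M := fun _ a ha ha2 => by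
  exfalso
  exact h (mk_orderOf_two ha ha2 ▸ orderOf_dvd_natCard _)

end Automorphisms

section Involutions

variable {Q : Type*} [Group Q] [Finite Q] {C : Type*} [Group C] [Finite C]

theorem eq_of_sq_eq_one_of_isCyclic {D : Type*} [Group D] [Finite D] [IsCyclic D] {x y : D}
    (hx : orderOf x = 2) (hy : orderOf y = 2) : x = y := by
  by_contra hne
  have h := not_isCyclic_of_two (V := (⊤ : Subgroup D)) (mem_top x) (mem_top y) hx hy hne
  exact h (isCyclic_of_surjective (topEquiv (G := D)).symm topEquiv.symm.surjective)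

/-- With cyclic quotient and odd kernel all involutions are conjugate. -/
theorem isConj_of_odd_ker [IsCyclic C] (φ : Q →* C) (hk : Odd (Nat.card φ.ker)) (x y : Q)
    (hx : orderOf x = 2) (hy : orderOf y = 2) : IsConj x y := by
  haveI : Fact (Nat.Prime 2) := ⟨Nat.prime_two⟩
  have hout : ∀ z : Q, orderOf z = 2 → orderOf (φ z) = 2 := fun z hz => by
    refine orderOf_eq_prime (by rw [← map_pow, ← hz, pow_orderOf_eq_one, map_one]) fun h => ?_
    have := Subgroup.orderOf_dvd_natCard φ.ker (MonoidHom.mem_ker.2 h)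
    rw [hz] at this
    exact (Nat.not_even_iff_odd.2 hk) (even_iff_two_dvd.2 this)
  have hx2 : x * x = 1 := by rw [← pow_two, ← hx, pow_orderOf_eq_one]
  have hy2 : y * y = 1 := by rw [← pow_two, ← hy, pow_orderOf_eq_one]
  have hzk : x * y ∈ φ.ker := by
    rw [MonoidHom.mem_ker, map_mul, eq_of_sq_eq_one_of_isCyclic (hout x hx) (hout y hy), ← map_mul,
      hy2, map_one]
  obtain ⟨r, hr⟩ := hk
  have hzm : (x * y) ^ (2 * r + 1) = 1 :=
    orderOf_dvd_iff_pow_eq_one.1 (hr ▸ Subgroup.orderOf_dvd_natCard φ.ker hzk)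
  set w := (x * y) ^ (r + 1) with hwdef
  have hw : w * w = x * y := by
    rw [hwdef, ← pow_add, show r + 1 + (r + 1) = 2 * r + 1 + 1 by ring, pow_succ, hzm, one_mul]
  have hxinv : x⁻¹ = x := inv_eq_of_mul_eq_one_right hx2
  have hyinv : y⁻¹ = y := inv_eq_of_mul_eq_one_right hy2
  have hinv : x * w * x⁻¹ = w⁻¹ := by
    rw [hwdef, ← conj_pow, ← inv_pow, mul_inv_rev, hxinv, hyinv, ← mul_assoc x x y, hx2, one_mul]
  refine isConj_iff.2 ⟨w⁻¹, ?_⟩
  rw [inv_inv, show w⁻¹ * x = x * w by rw [← hinv, inv_mul_cancel_right], mul_assoc, hw, ← mul_assoc,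
    hx2, one_mul]

/-- With cyclic kernel and odd quotient there is at most one involution. -/
theorem isConj_of_odd_range (φ : Q →* C) (hC : Odd (Nat.card C)) [IsCyclic φ.ker] (x y : Q)
    (hx : orderOf x = 2) (hy : orderOf y = 2) : IsConj x y := by
  have hin : ∀ z : Q, orderOf z = 2 → z ∈ φ.ker := fun z hz => by
    refine MonoidHom.mem_ker.2 (orderOf_eq_one_iff.1 (Nat.eq_one_of_dvd_coprimes
      (Nat.coprime_two_left.2 hC) (hz ▸ orderOf_map_dvd φ z) (orderOf_dvd_natCard _)))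
  have h := eq_of_sq_eq_one_of_isCyclic (x := (⟨x, hin x hx⟩ : φ.ker)) (y := ⟨y, hin y hy⟩)
    (by rw [← orderOf_coe]; exact hx) (by rw [← orderOf_coe]; exact hy)
  rw [show x = y from congrArg Subtype.val h]

end Involutions

/-- A normal subgroup with trivial centralizer isomorphic to a good group has odd index. -/
theorem odd_index {H : Type*} [Group H] [Finite H] (hC : CycInter H) (L : Subgroup H) [L.Normal]
    (hcent : centralizer (L : Set H) = ⊥) {M : Type*} [Group M] (e : L ≃* M) (hM : Good M) :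
    Odd L.index := by
  haveI : Fact (Nat.Prime 2) := ⟨Nat.prime_two⟩
  haveI : Finite M := Finite.of_equiv L e.toEquiv
  have hZ : center M = ⊥ := by
    rw [eq_bot_iff]
    intro z hz
    obtain ⟨l, rfl⟩ := e.surjective z
    have hl : (l : H) ∈ centralizer (L : Set H) := mem_centralizer_iff.2 fun y hy => by
      have := e.injective ((map_mul e ⟨y, hy⟩ l).trans
        ((mem_center_iff.1 hz (e ⟨y, hy⟩)).trans (map_mul e l ⟨y, hy⟩).symm))
      exact congrArg Subtype.val this
    rw [hcent, mem_bot] at hl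
    rw [mem_bot, show l = 1 from Subtype.ext hl, map_one]
  let f : H →* MulAut M := (MulAut.congr e).toMonoidHom.comp MulAut.conjNormal
  have hf : Function.Injective f := by
    refine (injective_iff_map_eq_one f).2 fun x hx => ?_
    rw [← mem_bot, ← hcent, mem_centralizer_iff]
    intro y hy
    have h1 : (MulAut.conjNormal x : MulAut L) = 1 := (MulAut.congr e).injective (hx.trans (map_one (MulAut.congr e)).symm)
    have := congrArg Subtype.val (DFunLike.congr_fun h1 ⟨y, hy⟩)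
    simp only [MulAut.conjNormal_apply, MulAut.one_apply] at this
    exact (mul_inv_eq_iff_eq_mul.1 this).symm
  have hfl : ∀ l : L, f l = MulAut.conj (e l) := by
    intro l
    ext m
    obtain ⟨y, rfl⟩ := e.surjective m
    show e (MulAut.conjNormal (l : H) (e.symm (e y))) = MulAut.conj (e l) (e y)
    rw [e.symm_apply_apply, MulAut.conj_apply, ← map_inv, ← map_mul, ← map_mul]
    exact congrArg e (Subtype.ext (MulAut.conjNormal_apply _ _))
  rw [← Nat.not_even_iff_odd, even_iff_two_dvd, index_eq_card]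
  intro h2
  obtain ⟨q, hq⟩ := exists_prime_orderOf_dvd_card' 2 h2
  obtain ⟨x, rfl⟩ := QuotientGroup.mk_surjective q
  have hxL : x ∉ L := fun hx => by
    rw [(QuotientGroup.eq_one_iff x).2 hx, orderOf_one] at hq
    omega
  have hx2 : x ^ 2 ∈ L := by
    rw [← QuotientGroup.eq_one_iff, QuotientGroup.mk_pow, ← hq, pow_orderOf_eq_one]
  have ha : f x ∉ Cfsg.Inn M := by
    rintro ⟨z, hz⟩
    obtain ⟨l, rfl⟩ := e.surjective z
    exact hxL (hf ((hfl l).trans hz) ▸ l.2)
  have ha2 : f x ^ 2 ∈ Cfsg.Inn M := by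
    rw [← map_pow, hfl ⟨x ^ 2, hx2⟩]
    exact ⟨_, rfl⟩
  have hle : Cfsg.Inn M ⊔ zpowers (f x) ≤ f.range := by
    refine sup_le ?_ (zpowers_le.2 ⟨x, rfl⟩)
    rintro _ ⟨z, rfl⟩
    obtain ⟨l, rfl⟩ := e.surjective z
    exact ⟨l, hfl l⟩
  exact hM hZ _ ha ha2 (hC.of_injective
    ((MonoidHom.ofInjective hf).symm.toMonoidHom.comp (inclusion hle))
    ((MonoidHom.ofInjective hf).symm.injective.comp (inclusion_injective hle)))

end CfsgLib.CyclicInter
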