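import Cfsg.Agent.Lib.CyclicZFact.Socle
import Cfsg.Prelude.Def_CaseTheorems

/-!
Finite groups in which two distinct Sylow 2-subgroups always meet in a cyclic group: the property
passes to subgroups, and a group with trivial solvable radical has a simple socle.
-/

set_option autoImplicit false
set_option linter.style.haveILetI false

open Subgroup

namespace CfsgLib.CyclicInter

/-- Distinct Sylow 2-subgroups meet in cyclic groups. -/
def CycInter (G : Type*) [Group G] : Prop :=
  ∀ S T : Sylow 2 G, S ≠ T → IsCyclic ↥((S : Subgroup G) ⊓ (T : Subgroup G))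

theorem CycInter.of_injective {G : Type*} [Group G] {H : Type*} [Group H] (h : CycInter G)
    (f : H →* G) (hf : Function.Injective f) : CycInter H := by
  intro S T hne
  obtain ⟨S', hS⟩ := S.exists_comap_eq_of_injective hf
  obtain ⟨T', hT⟩ := T.exists_comap_eq_of_injective hf
  have := h S' T' (fun e => hne (Sylow.ext (by rw [← hS, ← hT, e])))
  have hle : ((S : Subgroup H) ⊓ (T : Subgroup H)).map f ≤ (S' : Subgroup G) ⊓ (T' : Subgroup G) := by
    rw [map_le_iff_le_comap, comap_inf, hS, hT]
  have : IsCyclic (((S : Subgroup H) ⊓ (T : Subgroup H)).map f) :=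
    isCyclic_of_injective (inclusion hle) (inclusion_injective _)
  exact (equivMapOfInjective _ f hf).isCyclic.2 this

/-- A cyclic group has 2-rank at most one. -/
theorem prankLE_of_cyclic {C : Type*} [Group C] [Finite C] (h : IsCyclic C) :
    Cfsg.PRankLE 2 1 C := by
  intro A _ hA
  classical
  haveI := Fintype.ofFinite C
  rw [pow_one, Nat.card_eq_fintype_card, Fintype.card_subtype]
  calc _ ≤ (Finset.univ.filter (fun x : C => x ^ 2 = 1)).card :=
        Finset.card_le_card fun x hx => by
          simp only [Finset.mem_filter, Finset.mem_univ, true_and] at hx ⊢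
          exact hA x hx
    _ ≤ 2 := IsCyclic.card_pow_eq_one_le two_pos

theorem not_isCyclic_of_two {G : Type*} [Group G] [Finite G] {V : Subgroup G} {s t : G}
    (hs : s ∈ V) (ht : t ∈ V) (hs2 : orderOf s = 2) (ht2 : orderOf t = 2) (hne : s ≠ t) :
    ¬ IsCyclic V := by
  intro hc
  classical
  haveI := Fintype.ofFinite V
  have h := IsCyclic.card_pow_eq_one_le (α := V) two_pos
  have hs1 : s ≠ 1 := fun e => by simp [e] at hs2
  have ht1 : t ≠ 1 := fun e => by simp [e] at ht2
  have h3 : ({1, ⟨s, hs⟩, ⟨t, ht⟩} : Finset V) ⊆ Finset.univ.filter fun x => x ^ 2 = 1 := by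
    intro x hx
    simp only [Finset.mem_insert, Finset.mem_singleton] at hx
    simp only [Finset.mem_filter, Finset.mem_univ, true_and]
    rcases hx with rfl | rfl | rfl
    · exact one_pow 2
    · exact Subtype.ext (by simpa [hs2] using pow_orderOf_eq_one s)
    · exact Subtype.ext (by simpa [ht2] using pow_orderOf_eq_one t)
  have h4 := (Finset.card_le_card h3).trans h
  rw [Finset.card_insert_of_notMem, Finset.card_pair] at h4
  · omega
  · exact fun e => hne (congrArg Subtype.val e)
  · simp only [Finset.mem_insert, Finset.mem_singleton, Subtype.ext_iff]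
    push Not
    exact ⟨hs1.symm, ht1.symm⟩

theorem isPGroup_zpowers_involution {G : Type*} [Group G] {s : G} (hs : orderOf s = 2) :
    IsPGroup 2 (zpowers s) :=
  IsPGroup.of_card (n := 1) (by rw [Nat.card_zpowers, hs, pow_one])

section Socle

universe u
variable {G : Type u} [Group G] [Finite G]

/-- Two commuting nontrivial subnormal subgroups contradict cyclic intersections. -/
theorem no_pair (hC : CycInter G) (hR : Cfsg.solvableRadical G = ⊥) {K L : Subgroup G}
    (hK : K.IsSubnormal) (hL : L.IsSubnormal) (hK1 : K ≠ ⊥) (hL1 : L ≠ ⊥)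
    (hc : ∀ x ∈ K, ∀ y ∈ L, Commute x y) : False := by
  haveI : Fact (Nat.Prime 2) := ⟨Nat.prime_two⟩
  haveI : Nontrivial L := L.nontrivial_iff_ne_bot.2 hL1
  haveI : Nontrivial K := K.nontrivial_iff_ne_bot.2 hK1
  obtain ⟨s, t, hs, ht, hst, hcomm⟩ :=
    CyclicZFact.exists_two_involutions (CyclicZFact.radical_of_isSubnormal hR hL)
  have hs' : orderOf (s : G) = 2 := by rw [orderOf_coe, hs]
  have ht' : orderOf (t : G) = 2 := by rw [orderOf_coe, ht]
  set V := zpowers (s : G) ⊔ zpowers (t : G) with hV
  have hV2 : IsPGroup 2 V :=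
    (isPGroup_zpowers_involution hs').to_sup_of_normal_right' (isPGroup_zpowers_involution ht')
      ((zpowers_le.2 (mem_centralizer_iff.2 fun y hy => by
        obtain ⟨i, rfl⟩ := mem_zpowers_iff.1 hy
        exact (((hcomm.map L.subtype).zpow_right i).eq).symm)).trans (centralizer_le_normalizer _))
  have hVc : ¬ IsCyclic V := not_isCyclic_of_two (mem_sup_left (mem_zpowers _))
    (mem_sup_right (mem_zpowers _)) hs' ht' fun e => hst (Subtype.ext e)
  have hVL : V ≤ L := sup_le (zpowers_le.2 s.2) (zpowers_le.2 t.2)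
  have hKR := CyclicZFact.radical_of_isSubnormal hR hK
  obtain ⟨a, -, ha, -⟩ := CyclicZFact.exists_two_involutions hKR
  obtain ⟨S, hS⟩ := (isPGroup_zpowers_involution ha).exists_le_sylow
  obtain ⟨T, hT⟩ : ∃ T : Sylow 2 K, T ≠ S := by
    by_contra hall
    push Not at hall
    haveI : Subsingleton (Sylow 2 K) := ⟨fun x y => (hall x).trans (hall y).symm⟩
    haveI := S.isPGroup'.isNilpotent
    have h1 := CyclicZFact.eq_bot_of_solvable hKR (Sylow.normal_of_subsingleton S) inferInstance
    have h2 := hS (mem_zpowers a)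
    rw [h1, mem_bot] at h2
    simp [h2] at ha
  have hup : ∀ P : Sylow 2 K, IsPGroup 2 ↥(V ⊔ (P : Subgroup K).map K.subtype) := fun P =>
    hV2.to_sup_of_normal_right' (P.isPGroup'.map _)
      ((show V ≤ centralizer (((P : Subgroup K).map K.subtype : Subgroup G) : Set G) from fun v hv =>
        mem_centralizer_iff.2 fun y hy => by
          obtain ⟨x, -, rfl⟩ := hy
          exact (hc x x.2 v (hVL hv)).eq).trans (centralizer_le_normalizer _))
  obtain ⟨A, hA⟩ := (hup S).exists_le_sylow
  obtain ⟨B, hB⟩ := (hup T).exists_le_sylow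
  have hne : A ≠ B := by
    rintro rfl
    have hp : IsPGroup 2 ↥((A : Subgroup G).comap K.subtype) :=
      A.isPGroup'.comap_of_injective _ K.subtype_injective
    exact hT (Sylow.ext ((T.is_maximal' hp (map_le_iff_le_comap.1 (le_sup_right.trans hB))).symm.trans
      (S.is_maximal' hp (map_le_iff_le_comap.1 (le_sup_right.trans hA)))))
  haveI := hC A B hne
  exact hVc (isCyclic_of_injective (inclusion (le_inf (le_sup_left.trans hA) (le_sup_left.trans hB)))
    (inclusion_injective _))

/-- The socle is simple. -/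
theorem exists_simple [Nontrivial G] (hC : CycInter G) (hR : Cfsg.solvableRadical G = ⊥) :
    ∃ N : Subgroup G, N.Normal ∧ IsSimpleGroup N ∧ ¬ IsMulCommutative N ∧
      centralizer (N : Set G) = ⊥ := by
  obtain ⟨N, hN⟩ := ({N : Subgroup G | N.Normal ∧ N ≠ ⊥}).toFinite.exists_minimal
    ⟨⊤, inferInstance, top_ne_bot⟩
  haveI := hN.prop.1
  have hCN : centralizer (N : Set G) = ⊥ := by
    by_contra hne
    exact no_pair hC hR hN.prop.1.isSubnormal
      (inferInstance : (centralizer (N : Set G)).Normal).isSubnormal hN.prop.2 hne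
      (fun x hx y hy => mem_centralizer_iff.1 hy x hx)
  haveI : Nontrivial N := N.nontrivial_iff_ne_bot.2 hN.prop.2
  have hab : ¬ IsMulCommutative N := fun h => by
    haveI := h
    exact hN.prop.2 (CyclicZFact.eq_bot_of_solvable hR hN.prop.1 (Group.isSolvable_of_comm mul_comm'))
  refine ⟨N, hN.prop.1, ?_, hab, hCN⟩
  obtain ⟨K, hK⟩ := ({K : Subgroup N | K.Normal ∧ K ≠ ⊥}).toFinite.exists_minimal
    ⟨⊤, inferInstance, top_ne_bot⟩
  haveI := hK.prop.1
  have hKtop : K = ⊤ := by
    by_cases hinv : ∀ g : G, ∀ k : N, k ∈ K →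
        (⟨g * k * g⁻¹, hN.prop.1.conj_mem _ k.2 g⟩ : N) ∈ K
    · have hKn : (K.map N.subtype).Normal := ⟨by
        rintro _ ⟨k, hk, rfl⟩ g
        exact ⟨_, hinv g k hk, rfl⟩⟩
      have hle := hN.le_of_le ⟨hKn, fun e => hK.prop.2
        ((map_eq_bot_iff_of_injective _ N.subtype_injective).1 e)⟩ (map_subtype_le K)
      refine eq_top_iff.2 fun k _ => ?_
      obtain ⟨k', hk', e⟩ := hle k.2
      exact (Subtype.ext e : k' = k) ▸ hk'
    · exfalso
      push Not at hinv
      obtain ⟨g, k, hk, hgk⟩ := hinv
      let φ : MulAut N := MulAut.conjNormal g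
      set K' := K.map φ.toMonoidHom
      have hK'n : K'.Normal := hK.prop.1.map _ φ.surjective
      have hcard : Nat.card K' = Nat.card K := card_map_of_injective φ.injective
      have hd : K ⊓ K' = ⊥ := by
        by_contra hne
        have h1 : K ⊓ K' = K := le_antisymm inf_le_left
          (hK.le_of_le ⟨inferInstance, hne⟩ inf_le_left)
        have h2 : K = K' := eq_of_le_of_card_ge (inf_eq_left.1 h1) hcard.le
        exact hgk (h2 ▸ ⟨k, hk, Subtype.ext (MulAut.conjNormal_apply g k)⟩)
      refine no_pair hC hR (K := K.map N.subtype) (L := K'.map N.subtype)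
        (Subgroup.IsSubnormal.trans' hK.prop.1.isSubnormal hN.prop.1.isSubnormal)
        (Subgroup.IsSubnormal.trans' hK'n.isSubnormal hN.prop.1.isSubnormal)
        (fun e => hK.prop.2 ((map_eq_bot_iff_of_injective _ N.subtype_injective).1 e))
        (fun e => hK.prop.2 ((map_eq_bot_iff_of_injective _ φ.injective).1
          ((map_eq_bot_iff_of_injective _ N.subtype_injective).1 e))) ?_
      rintro _ ⟨x, hx, rfl⟩ _ ⟨y, hy, rfl⟩
      exact (commute_of_normal_of_disjoint K K' hK.prop.1 hK'n (disjoint_iff.2 hd) x y hx hy).map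
        N.subtype
  refine ⟨fun H hH => ?_⟩
  by_contra hcon
  push Not at hcon
  exact hcon.2 (top_le_iff.1 (hKtop ▸ hK.le_of_le ⟨hH, hcon.1⟩ (hKtop ▸ le_top)))

end Socle

end CfsgLib.CyclicInter
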