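import Cfsg.Agent.Lib.CyclicInter.Tools
import Cfsg.Agent.Lib.AutPSL.BalanceField
import Cfsg.Agent.S2602

/-!
The groups `PSL_2(q)`, `q ≡ 3, 5 (mod 8)`: the extension by the diagonal automorphism has two
Sylow 2-subgroups meeting in a four-group.
-/

set_option autoImplicit false
set_option linter.style.haveILetI false

open Subgroup Matrix

namespace CfsgLib.CyclicInter

open CfsgLib.AutPSL

variable {F : Type*} [Field F]

theorem mk_eq_of_neg {s s' : SLG 2 F} (h : s'.1 = -s.1) :
    (QuotientGroup.mk s : PSLG 2 F) = QuotientGroup.mk s' := by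
  rw [QuotientGroup.eq, Matrix.SpecialLinearGroup.mem_center_iff]
  refine ⟨-1, by simp, ?_⟩
  rw [Matrix.SpecialLinearGroup.coe_mul, h, Matrix.mul_neg, ← Matrix.SpecialLinearGroup.coe_mul,
    inv_mul_cancel, Matrix.SpecialLinearGroup.coe_one]
  ext i j
  fin_cases i <;> fin_cases j <;> simp

theorem conjAut_mk_eq {g : GL (Fin 2) F} {s s' : SLG 2 F}
    (h : (g : Matrix (Fin 2) (Fin 2) F) * s.1 = s'.1 * (g : Matrix (Fin 2) (Fin 2) F)) :
    conjAut g (QuotientGroup.mk s : PSLG 2 F) = QuotientGroup.mk s' := by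
  rw [conjAut_mk]
  refine congrArg _ (Subtype.ext ?_)
  rw [slConj_coe, h, mul_assoc, ← Units.val_mul, mul_inv_cancel, Units.val_one, mul_one]

theorem sl_conj_eq {s u u' : SLG 2 F} (h : s.1 * u.1 = u'.1 * s.1) :
    (QuotientGroup.mk s : PSLG 2 F) * QuotientGroup.mk u * (QuotientGroup.mk s)⁻¹ =
      QuotientGroup.mk u' := by
  rw [mul_inv_eq_iff_eq_mul, ← QuotientGroup.mk_mul, ← QuotientGroup.mk_mul]
  exact congrArg _ (Subtype.ext h)

variable [Fintype F]

set_option maxHeartbeats 2000000 in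
theorem good_psl_odd (hq : Fintype.card F % 8 = 3 ∨ Fintype.card F % 8 = 5)
    (h5 : 5 < Fintype.card F) : Good (PSLG 2 F) := by
  haveI : Fact (Nat.Prime 2) := ⟨Nat.prime_two⟩
  obtain ⟨p, hp⟩ := CharP.exists F
  obtain ⟨f, hpp, hF⟩ := FiniteField.card F p
  haveI : Fact p.Prime := ⟨hpp⟩
  haveI : NeZero (f : ℕ) := ⟨f.ne_zero⟩
  haveI : Finite (MulAut (PSLG 2 F)) := Finite.of_injective _ DFunLike.coe_injective
  obtain ⟨φ, -, hcyc, -⟩ := Cfsg.Agent.S2602.result (p := p) (f := f) f.pos hF (by omega)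
  have hfodd : Odd (f : ℕ) := by
    by_contra h
    obtain ⟨r, hr⟩ := Nat.not_odd_iff_even.1 h
    rw [hF, hr, pow_add, Nat.mul_mod] at hq
    have : p ^ r % 8 < 8 := Nat.mod_lt _ (by norm_num)
    interval_cases p ^ r % 8 <;> omega
  -- scalar facts
  have h2 : ¬ IsSquare (2 : F) := fun h => by
    have := FiniteField.isSquare_two_iff.1 h
    omega
  have h20 : (2 : F) ≠ 0 := fun h => h2 ⟨0, by rw [mul_zero, h]⟩
  obtain ⟨a', b', hab'⟩ := CharP.sq_add_sq F p (-1)
  set a : F := (a' : F)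
  set b : F := (b' : F)
  have hab : a ^ 2 + b ^ 2 = -1 := by simpa using hab'
  -- the quaternions
  let I : SLG 2 F := ⟨!![0, 1; -1, 0], by simp [Matrix.det_fin_two]⟩
  let J : SLG 2 F := ⟨!![a, b; b, -a], by rw [Matrix.det_fin_two_of]; linear_combination -hab⟩
  let K : SLG 2 F := ⟨!![b, -a; -a, -b], by rw [Matrix.det_fin_two_of]; linear_combination -hab⟩
  let T : SLG 2 F := ⟨!![(-1 + a + b) / 2, (1 + b - a) / 2; (-1 + b - a) / 2, (-1 - a - b) / 2], by
    rw [Matrix.det_fin_two_of]; field_simp; linear_combination -2 * hab⟩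
  let T' : SLG 2 F := ⟨!![(-1 - a + b) / 2, (1 - a - b) / 2; (-1 - a - b) / 2, (-1 + a - b) / 2], by
    rw [Matrix.det_fin_two_of]; field_simp; linear_combination -2 * hab⟩
  let D : SLG 2 F := ⟨!![(1 - a + b) / 2, (-1 - a - b) / 2; (1 - a - b) / 2, (1 + a - b) / 2], by
    rw [Matrix.det_fin_two_of]; field_simp; linear_combination -2 * hab⟩
  let g : GL (Fin 2) F := Matrix.GeneralLinearGroup.mkOfDetNeZero !![1, 1; -1, 1] (by
    rw [Matrix.det_fin_two_of]; intro h; exact h20 (by linear_combination h))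
  have hgv : (g : Matrix (Fin 2) (Fin 2) F) = !![1, 1; -1, 1] := rfl
  let π : SLG 2 F →* PSLG 2 F := QuotientGroup.mk' _
  set σ : MulAut (PSLG 2 F) := conjAut g with hσdef
  have hI2 : π I * π I = 1 := by
    rw [← map_mul, ← map_one π]
    refine (mk_eq_of_neg ?_).symm
    show !![(0 : F), 1; -1, 0] * !![0, 1; -1, 0] = -(1 : Matrix (Fin 2) (Fin 2) F)
    ext i j
    fin_cases i <;> fin_cases j <;> simp
  have hJ2 : π J * π J = 1 := by
    rw [← map_mul, ← map_one π]
    refine (mk_eq_of_neg ?_).symm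
    show !![a, b; b, -a] * !![a, b; b, -a] = -(1 : Matrix (Fin 2) (Fin 2) F)
    ext i j
    fin_cases i <;> fin_cases j <;> simp [Matrix.mul_apply, Fin.sum_univ_two] <;>
      first
        | linear_combination hab
        | ring
  have hIJ : π I * π J = π K := by
    rw [← map_mul]
    refine congrArg π (Subtype.ext ?_)
    show !![(0 : F), 1; -1, 0] * !![a, b; b, -a] = !![b, -a; -a, -b]
    simp [Matrix.mul_fin_two]
  have hJI : π J * π I = π K := by
    rw [← map_mul]
    refine mk_eq_of_neg ?_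
    show !![b, -a; -a, -b] = -(!![a, b; b, -a] * !![(0 : F), 1; -1, 0])
    ext i j
    fin_cases i <;> fin_cases j <;> simp [Matrix.mul_apply, Fin.sum_univ_two]
  have hne : ∀ {s : SLG 2 F}, π s = 1 → s.1 0 1 = 0 ∧ s.1 1 0 = 0 ∧ s.1 0 0 = s.1 1 1 := by
    intro s h
    obtain ⟨r, -, hr⟩ := Matrix.SpecialLinearGroup.mem_center_iff.1 ((QuotientGroup.eq_one_iff _).1 h)
    rw [← hr]
    simp
  have hab0 : ¬ (a = 0 ∧ b = 0) := by
    rintro ⟨ha, hb⟩
    rw [ha, hb] at hab
    simp at hab
  have hI1 : π I ≠ 1 := fun h => by simpa [I] using (hne h).1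
  have hJ1 : π J ≠ 1 := fun h => by
    obtain ⟨h01, -, h00⟩ := hne h
    have h01' : b = 0 := h01
    have h00' : a = -a := h00
    exact hab0 ⟨by
      have : (2 : F) * a = 0 := by linear_combination h00'
      exact (mul_eq_zero.1 this).resolve_left h20, h01'⟩
  have hK1 : π K ≠ 1 := fun h => by
    obtain ⟨h01, -, h00⟩ := hne h
    have h01' : -a = 0 := h01
    have h00' : b = -b := h00
    exact hab0 ⟨neg_eq_zero.1 h01', by
      have : (2 : F) * b = 0 := by linear_combination h00'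
      exact (mul_eq_zero.1 this).resolve_left h20⟩
  have hcomm : Commute (π I) (π J) := hIJ.trans hJI.symm
  set V : Subgroup (PSLG 2 F) := closure {π I, π J} with hV
  have hIV : π I ∈ V := subset_closure (Set.mem_insert _ _)
  have hJV : π J ∈ V := subset_closure (Set.mem_insert_of_mem _ rfl)
  have hKV : π K ∈ V := hIJ ▸ mul_mem hIV hJV
  -- the action of `σ`
  have hσI : σ (π I) = π I := conjAut_mk_eq (by
    show (g : Matrix (Fin 2) (Fin 2) F) * !![(0 : F), 1; -1, 0] = !![(0 : F), 1; -1, 0] * (g : Matrix (Fin 2) (Fin 2) F)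
    rw [hgv]; simp [Matrix.mul_fin_two])
  have hσJ : σ (π J) = π K := conjAut_mk_eq (by
    show (g : Matrix (Fin 2) (Fin 2) F) * !![a, b; b, -a] = !![b, -a; -a, -b] * (g : Matrix (Fin 2) (Fin 2) F)
    rw [hgv]
    ext i j
    fin_cases i <;> fin_cases j <;> simp [Matrix.mul_apply, Fin.sum_univ_two] <;> ring)
  have hσT : σ (π T) = π T' := conjAut_mk_eq (by
    show (g : Matrix (Fin 2) (Fin 2) F) *
        !![(-1 + a + b) / 2, (1 + b - a) / 2; (-1 + b - a) / 2, (-1 - a - b) / 2] =
      !![(-1 - a + b) / 2, (1 - a - b) / 2; (-1 - a - b) / 2, (-1 + a - b) / 2] * (g : Matrix (Fin 2) (Fin 2) F)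
    rw [hgv]
    ext i j
    fin_cases i <;> fin_cases j <;> simp [Matrix.mul_apply, Fin.sum_univ_two] <;> ring)
  have hσσ : σ ^ 2 = MulAut.conj (π I) := by
    apply MulEquiv.ext
    intro x
    induction x using QuotientGroup.induction_on with
    | H s =>
      rw [pow_two, hσdef, ← map_mul, MulAut.conj_apply]
      show conjAut (g * g) (π s) = π I * π s * (π I)⁻¹
      rw [← map_inv, ← map_mul, ← map_mul]
      refine conjAut_mk_eq ?_
      have hgg : ((g * g : GL (Fin 2) F) : Matrix (Fin 2) (Fin 2) F) = (2 : F) • I.1 := by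
        rw [Units.val_mul, hgv]
        show !![(1 : F), 1; -1, 1] * !![1, 1; -1, 1] = (2 : F) • !![(0 : F), 1; -1, 0]
        ext i j
        fin_cases i <;> fin_cases j <;> simp <;> ring
      rw [hgg, Matrix.smul_mul, Matrix.mul_smul, ← Matrix.SpecialLinearGroup.coe_mul,
        ← Matrix.SpecialLinearGroup.coe_mul, inv_mul_cancel_right]
  have hσ4 : σ ^ 2 ^ 2 = 1 := by
    rw [pow_two (2 : ℕ), pow_mul, hσσ, ← map_pow, pow_two, hI2, map_one]
  -- the element of order three
  have hTI : π T * π I * (π T)⁻¹ = π K := sl_conj_eq (by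
    show !![(-1 + a + b) / 2, (1 + b - a) / 2; (-1 + b - a) / 2, (-1 - a - b) / 2] * !![(0 : F), 1; -1, 0] =
      !![b, -a; -a, -b] * !![(-1 + a + b) / 2, (1 + b - a) / 2; (-1 + b - a) / 2, (-1 - a - b) / 2]
    ext i j
    fin_cases i <;> fin_cases j <;> simp [Matrix.mul_apply, Fin.sum_univ_two] <;> field_simp <;>
      first
        | linear_combination hab
        | linear_combination -hab
        | ring)
  have hTJ : π T * π J * (π T)⁻¹ = π I := sl_conj_eq (by
    show !![(-1 + a + b) / 2, (1 + b - a) / 2; (-1 + b - a) / 2, (-1 - a - b) / 2] * !![a, b; b, -a] =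
      !![(0 : F), 1; -1, 0] * !![(-1 + a + b) / 2, (1 + b - a) / 2; (-1 + b - a) / 2, (-1 - a - b) / 2]
    ext i j
    fin_cases i <;> fin_cases j <;> simp [Matrix.mul_apply, Fin.sum_univ_two] <;> field_simp <;>
      first
        | linear_combination hab
        | linear_combination -hab
        | ring)
  have hd : π T * σ (π T)⁻¹ = π D := by
    rw [map_inv, hσT, mul_inv_eq_iff_eq_mul, ← map_mul]
    refine congrArg π (Subtype.ext ?_)
    show !![(-1 + a + b) / 2, (1 + b - a) / 2; (-1 + b - a) / 2, (-1 - a - b) / 2] =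
      !![(1 - a + b) / 2, (-1 - a - b) / 2; (1 - a - b) / 2, (1 + a - b) / 2] *
        !![(-1 - a + b) / 2, (1 - a - b) / 2; (-1 - a - b) / 2, (-1 + a - b) / 2]
    ext i j
    fin_cases i <;> fin_cases j <;> simp [Matrix.mul_apply, Fin.sum_univ_two] <;> field_simp <;>
      first
        | linear_combination 2 * hab
        | linear_combination -2 * hab
        | ring
  refine good_of_witness (isConj_of_odd_range φ (by rw [natCard_zmod]; exact hfodd)) (σ := σ) ?_
    (by rw [hσσ]; exact ⟨π I, rfl⟩) ⟨V, π T, 2, 3, hσ4,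
      isPGroup_two_of_mul_self V (fun x hx => (mul_self_of_mem_sup hI2 hJ2 hcomm hx).1),
      not_isCyclic_of_two hIV hJV (orderOf_two hI2 hI1) (orderOf_two hJ2 hJ1) ?_, ?_, ?_,
      ⟨1, rfl⟩, ?_, ?_⟩
  · rintro ⟨x, hx⟩
    obtain ⟨s, rfl⟩ := QuotientGroup.mk_surjective x
    rw [← conjAut_toGL] at hx
    have hc := (eq_one_of_conj_field le_rfl (g := (Matrix.SpecialLinearGroup.toGL s)⁻¹ * g)
      (σ := 1) (by rw [map_one, mul_one, map_mul, map_inv, hx, inv_mul_cancel])).1
    obtain ⟨r, hr⟩ := Matrix.GeneralLinearGroup.mem_center_iff_val_mem_range_scalar.1 hc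
    have h1 : (g : Matrix (Fin 2) (Fin 2) F) = s.1 * Matrix.scalar (Fin 2) r := by
      rw [hr, Units.val_mul, ← mul_assoc,
        show s.1 = ((Matrix.SpecialLinearGroup.toGL s : GL (Fin 2) F) : Matrix (Fin 2) (Fin 2) F) from rfl,
        ← Units.val_mul, mul_inv_cancel, Units.val_one, one_mul]
    have h3 := congrArg Matrix.det h1
    rw [Matrix.det_mul, s.2, one_mul, hgv, Matrix.det_fin_two_of] at h3
    refine h2 ⟨r, ?_⟩
    simp [Matrix.scalar_apply, Matrix.det_diagonal] at h3
    linear_combination h3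
  · intro h
    refine hK1 ?_
    rw [← hIJ, h, hJ2]
  · exact fun v hv => map_mem_closure_pair σ.toMonoidHom (show σ (π I) ∈ _ by rw [hσI]; exact hIV)
      (show σ (π J) ∈ _ by rw [hσJ]; exact hKV) hv
  · exact fun v hv => map_mem_closure_pair (MulAut.conj (π T)).toMonoidHom
      (show π T * π I * (π T)⁻¹ ∈ _ by rw [hTI]; exact hKV)
      (show π T * π J * (π T)⁻¹ ∈ _ by rw [hTJ]; exact hIV) hv
  · rw [hd, pow_succ, pow_two, ← map_mul, ← map_mul, ← map_one π]
    refine (mk_eq_of_neg ?_).symm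
    show !![(1 - a + b) / 2, (-1 - a - b) / 2; (1 - a - b) / 2, (1 + a - b) / 2] *
        !![(1 - a + b) / 2, (-1 - a - b) / 2; (1 - a - b) / 2, (1 + a - b) / 2] *
        !![(1 - a + b) / 2, (-1 - a - b) / 2; (1 - a - b) / 2, (1 + a - b) / 2] =
      -(1 : Matrix (Fin 2) (Fin 2) F)
    ext i j
    fin_cases i <;> fin_cases j <;> simp [Matrix.mul_apply, Fin.sum_univ_two] <;> field_simp <;>
      first
        | linear_combination (6 + 2 * (a - b)) * hab
        | linear_combination (6 - 2 * (a - b)) * hab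
        | linear_combination (2 * a + 2 * b + 2) * hab
        | linear_combination (-2 * a - 2 * b - 2) * hab
        | linear_combination (2 * a + 2 * b - 2) * hab
        | linear_combination (-2 * a - 2 * b + 2) * hab
        | ring_nf
  · rw [hd]
    intro h
    obtain ⟨h01, h10, -⟩ := hne h
    have h01' : (-1 - a - b) / 2 = 0 := h01
    have h10' : (1 - a - b) / 2 = 0 := h10
    field_simp at h01' h10'
    exact h20 (by linear_combination h10' - h01')

end CfsgLib.CyclicInter
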