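import Cfsg.Agent.Lib.CyclicInter.ModelEven
import Cfsg.Agent.Lib.CyclicInter.ModelOdd
import Cfsg.Agent.Lib.Sporadic.J1
import Cfsg.Agent.S2065
import Cfsg.Agent.S2126
import Cfsg.Agent.S4273
import Cfsg.Agent.S3305
import Cfsg.Prelude.Def_Sporadic
import Cfsg.Prelude.Def_Classical

/-!
Nonsolvable groups with cyclic intersections of distinct Sylow 2-subgroups, from the list of the
simple ones.
-/

set_option autoImplicit false
set_option linter.style.haveILetI false

open Subgroup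

namespace CfsgLib.CyclicInter

universe u

/-- The five families of simple groups with cyclic Sylow 2-intersections. -/
def InList (Q : Type*) [Group Q] : Prop :=
  (∃ (n : ℕ) (F : Type) (_ : Field F) (_ : Fintype F), 2 ≤ n ∧ Fintype.card F = 2 ^ n ∧
      Nonempty (Q ≃* Matrix.ProjectiveSpecialLinearGroup (Fin 2) F)) ∨
  (∃ (m : ℕ) (F : Type) (_ : Field F) (_ : Fintype F), 1 ≤ m ∧ Fintype.card F = 2 ^ (2 * m + 1) ∧
      Nonempty (Q ≃* ↥(Cfsg.Lie.Sz F (2 ^ (m + 1))))) ∨
  (∃ (n : ℕ) (F : Type) (_ : Field F) (_ : Fintype F), 2 ≤ n ∧ Fintype.card F = 4 ^ n ∧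
      Nonempty (Q ≃* Cfsg.PSU 3 F (2 ^ n))) ∨
  (∃ (F : Type) (_ : Field F) (_ : Fintype F), (Fintype.card F % 8 = 3 ∨ Fintype.card F % 8 = 5) ∧
      5 < Fintype.card F ∧ Nonempty (Q ≃* Matrix.ProjectiveSpecialLinearGroup (Fin 2) F)) ∨
  Cfsg.IsJ1 Q

/-- The classification of the simple groups with cyclic Sylow 2-intersections. -/
def SimpleList : Prop :=
  ∀ (L : Type u) [Group L] [Finite L] [IsSimpleGroup L], ¬ IsMulCommutative L → CycInter L → InList L

theorem InList.congr {P Q : Type*} [Group P] [Group Q] (e : Q ≃* P) (h : InList P) : InList Q := by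
  rcases h with ⟨n, F, i, j, h1, h2, ⟨f⟩⟩ | ⟨n, F, i, j, h1, h2, ⟨f⟩⟩ | ⟨n, F, i, j, h1, h2, ⟨f⟩⟩ |
    ⟨F, i, j, h1, h2, ⟨f⟩⟩ | ⟨h1, h2⟩
  · exact .inl ⟨n, F, i, j, h1, h2, ⟨e.trans f⟩⟩
  · exact .inr (.inl ⟨n, F, i, j, h1, h2, ⟨e.trans f⟩⟩)
  · exact .inr (.inr (.inl ⟨n, F, i, j, h1, h2, ⟨e.trans f⟩⟩))
  · exact .inr (.inr (.inr (.inl ⟨F, i, j, h1, h2, ⟨e.trans f⟩⟩)))
  · haveI := h1
    exact .inr (.inr (.inr (.inr ⟨e.isSimpleGroup, (Nat.card_congr e.toEquiv).trans h2⟩)))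

theorem good_sz {F : Type*} [Field F] [Fintype F] {m : ℕ} (hm : 1 ≤ m)
    (hF : Fintype.card F = 2 ^ (2 * m + 1)) : Good ↥(Cfsg.Lie.Sz F (2 ^ (m + 1))) :=
  good_of_no_involution (by rw [Cfsg.Agent.S2126.result hm hF]; omega)

theorem good_j1 : Good ↥Cfsg.Spor.J1 :=
  good_of_no_involution (by rw [Cfsg.Agent.S2065.result]; omega)

/-- In an almost simple group with cyclic intersections the socle has odd index. -/
theorem InList.odd_index {H : Type u} [Group H] [Finite H] (hC : CycInter H) (L : Subgroup H)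
    [L.Normal] [IsSimpleGroup L] (hcent : centralizer (L : Set H) = ⊥) (h : InList L) :
    Odd L.index := by
  rcases h with ⟨n, F, i, j, h1, h2, ⟨f⟩⟩ | ⟨n, F, i, j, h1, h2, ⟨f⟩⟩ | ⟨n, F, i, j, h1, h2, ⟨f⟩⟩ |
    ⟨F, i, j, h1, h2, ⟨f⟩⟩ | ⟨_, h2⟩
  · exact CyclicInter.odd_index hC L hcent f (good_psl_even h1 h2)
  · exact CyclicInter.odd_index hC L hcent f (good_sz h1 h2)
  · exact CyclicInter.odd_index hC L hcent f (good_psu h1 h2)
  · exact CyclicInter.odd_index hC L hcent f (good_psl_odd h1 h2)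
  · haveI : IsSimpleGroup Cfsg.Spor.J1 := CfsgLib.Sporadic.J1.isSimple_J1
    obtain ⟨f⟩ := Cfsg.Agent.S4273.result (H := ↥Cfsg.Spor.J1) h2 CfsgLib.Sporadic.J1.card_J1
    exact CyclicInter.odd_index hC L hcent f good_j1

/-- The structure theorem, given the list of simple groups. -/
theorem structure_theorem (hlist : SimpleList.{u}) {G : Type u} [Group G] [Finite G]
    (hns : ¬ Group.IsSolvable G) (hC : CycInter G) (R : Subgroup G) [R.Normal]
    (hR : Group.IsSolvable R) (hRmax : ∀ N : Subgroup G, N.Normal → Group.IsSolvable N → N ≤ R) :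
    ∃ (G₁ : Subgroup G) (_ : G₁.Normal) (_ : (R.subgroupOf G₁).Normal), Odd G₁.index ∧ R ≤ G₁ ∧
      IsSimpleGroup (↥G₁ ⧸ R.subgroupOf G₁) ∧ ¬ IsMulCommutative (↥G₁ ⧸ R.subgroupOf G₁) ∧
      InList (↥G₁ ⧸ R.subgroupOf G₁) := by
  haveI := hR
  set π : G →* G ⧸ R := QuotientGroup.mk' R
  have hπ : Function.Surjective π := QuotientGroup.mk'_surjective R
  have hQC : CycInter (G ⧸ R) := Cfsg.Agent.S3305.result hC R
  have hrad : Cfsg.solvableRadical (G ⧸ R) = ⊥ := by
    haveI := Structure.isSolvable_solvableRadical (G := G ⧸ R)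
    haveI : (Cfsg.solvableRadical (G ⧸ R)).Normal := Structure.solvableRadical_normal
    set N := (Cfsg.solvableRadical (G ⧸ R)).comap π
    have hker : R ≤ N := fun x hx => by
      rw [mem_comap, show π x = 1 from (QuotientGroup.eq_one_iff x).2 hx]
      exact one_mem _
    have hN : Group.IsSolvable N := by
      refine Group.isSolvable_of_ker_le_range (inclusion hker)
        (π.subgroupComap (Cfsg.solvableRadical (G ⧸ R))) fun x hx => ?_
      have := congrArg Subtype.val (MonoidHom.mem_ker.1 hx)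
      exact ⟨⟨x, (QuotientGroup.eq_one_iff _).1 this⟩, Subtype.ext rfl⟩
    have hle := hRmax N inferInstance hN
    refine eq_bot_iff.2 fun q hq => ?_
    obtain ⟨x, rfl⟩ := hπ q
    exact (QuotientGroup.eq_one_iff x).2 (hle hq)
  haveI : Nontrivial (G ⧸ R) := by
    rw [← not_subsingleton_iff_nontrivial]
    intro hsub
    exact hns (Group.isSolvable_of_ker_le_range R.subtype (1 : G →* G ⧸ R)
      (fun x _ => ⟨⟨x, (QuotientGroup.eq_one_iff x).1 (Subsingleton.elim _ _)⟩, rfl⟩))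
  obtain ⟨L, hLn, hLs, hLa, hcent⟩ := exists_simple hQC hrad
  have hL : InList L := hlist L hLa (hQC.of_injective L.subtype L.subtype_injective)
  have hle : R ≤ L.comap π := fun x hx => by
    rw [mem_comap, show π x = 1 from (QuotientGroup.eq_one_iff x).2 hx]
    exact one_mem _
  have hk : R.subgroupOf (L.comap π) = (π.subgroupComap L).ker := by
    ext x
    rw [MonoidHom.mem_ker, mem_subgroupOf, ← QuotientGroup.eq_one_iff, Subtype.ext_iff]
    rfl
  haveI : (R.subgroupOf (L.comap π)).Normal := Normal.subgroupOf inferInstance _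
  let e : ↥(L.comap π) ⧸ R.subgroupOf (L.comap π) ≃* L :=
    (QuotientGroup.quotientMulEquivOfEq hk).trans (QuotientGroup.quotientKerEquivOfSurjective _
      (π.subgroupComap_surjective_of_surjective _ hπ))
  refine ⟨L.comap π, inferInstance, inferInstance, ?_, hle, e.isSimpleGroup, fun h => hLa ?_,
    hL.congr e⟩
  · rw [index_comap_of_surjective _ hπ]
    exact hL.odd_index hQC L hcent
  · exact ⟨⟨fun x y => e.symm.injective (by rw [map_mul, map_mul]; exact h.is_comm.comm _ _)⟩⟩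

end CfsgLib.CyclicInter
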