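import Cfsg.Agent.Lib.CyclicInter.Tools
import Cfsg.Agent.Lib.AutPSL.BalanceField
import Cfsg.Agent.Lib.AutPSU.Out
import Cfsg.Agent.S2602
import Cfsg.Agent.S2603

/-!
The groups `PSL_2(2^n)` and `PSU_3(2^n)`: no extension by an outer involution keeps cyclic
intersections of Sylow 2-subgroups.
-/

set_option autoImplicit false
set_option linter.style.haveILetI false
set_option linter.unusedSectionVars false

open Subgroup Matrix

namespace CfsgLib.CyclicInter

section PSL

open CfsgLib.AutPSL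

variable {F : Type*} [Field F]

/-- Upper unitriangular matrices. -/
def upper : Multiplicative F →* SLG 2 F where
  toFun x := ⟨!![1, Multiplicative.toAdd x; 0, 1], by simp [Matrix.det_fin_two]⟩
  map_one' := by
    apply Subtype.ext
    simp [Matrix.one_fin_two]
  map_mul' x y := by
    apply Subtype.ext
    show !![1, Multiplicative.toAdd x + Multiplicative.toAdd y; 0, 1] =
      !![1, Multiplicative.toAdd x; 0, 1] * !![1, Multiplicative.toAdd y; 0, 1]
    simp [Matrix.mul_fin_two, add_comm]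

/-- The diagonal torus. -/
def torus : Fˣ →* SLG 2 F where
  toFun a := ⟨!![(a : F), 0; 0, ((a⁻¹ : Fˣ) : F)], by simp [Matrix.det_fin_two]⟩
  map_one' := by
    apply Subtype.ext
    simp [Matrix.one_fin_two]
  map_mul' x y := by
    apply Subtype.ext
    show !![((x * y : Fˣ) : F), 0; 0, (((x * y)⁻¹ : Fˣ) : F)] =
      !![(x : F), 0; 0, ((x⁻¹ : Fˣ) : F)] * !![(y : F), 0; 0, ((y⁻¹ : Fˣ) : F)]
    simp [Matrix.mul_fin_two, mul_comm]

theorem upper_val (x : F) :
    (upper (Multiplicative.ofAdd x)).1 = !![1, x; 0, 1] := rfl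

theorem torus_val (a : Fˣ) : (torus a).1 = !![(a : F), 0; 0, (a : F)⁻¹] := by
  show !![(a : F), 0; 0, ((a⁻¹ : Fˣ) : F)] = _
  rw [Units.val_inv_eq_inv_val]

theorem upper_eq_one {x : F}
    (h : (QuotientGroup.mk (upper (Multiplicative.ofAdd x)) : PSLG 2 F) = 1) : x = 0 := by
  obtain ⟨r, -, hr⟩ := Matrix.SpecialLinearGroup.mem_center_iff.1 ((QuotientGroup.eq_one_iff _).1 h)
  simpa [upper_val] using (congrFun (congrFun hr 0) 1).symm

theorem torus_eq_one [CharP F 2] {a : Fˣ} (h : (QuotientGroup.mk (torus a) : PSLG 2 F) = 1) :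
    a = 1 := by
  obtain ⟨r, -, hr⟩ := Matrix.SpecialLinearGroup.mem_center_iff.1 ((QuotientGroup.eq_one_iff _).1 h)
  have h0 : r = (a : F) := by simpa [torus_val] using congrFun (congrFun hr 0) 0
  have h1 : r = (a : F)⁻¹ := by simpa [torus_val] using congrFun (congrFun hr 1) 1
  have h2 : (a : F) * a = 1 := by
    nth_rw 2 [show (a : F) = (a : F)⁻¹ from h0.symm.trans h1]
    exact mul_inv_cancel₀ a.ne_zero
  exact Units.ext ((mul_self_eq_one_iff.1 h2).elim id fun e => e.trans (CharTwo.neg_eq 1))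

theorem torus_conj_upper (a : Fˣ) (x : F) :
    torus a * upper (Multiplicative.ofAdd x) * (torus a)⁻¹ =
      upper (Multiplicative.ofAdd ((a : F) * a * x)) := by
  rw [mul_inv_eq_iff_eq_mul]
  apply Subtype.ext
  rw [Matrix.SpecialLinearGroup.coe_mul, Matrix.SpecialLinearGroup.coe_mul, upper_val, upper_val, torus_val]
  have := a.ne_zero
  simp [Matrix.mul_fin_two]
  field_simp

theorem field_upper (σ : F ≃+* F) (x : F) :
    slField σ (upper (Multiplicative.ofAdd x)) = upper (Multiplicative.ofAdd (σ x)) := by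
  apply Subtype.ext
  ext i j
  fin_cases i <;> fin_cases j <;> simp [slField_coe, upper_val]

theorem field_torus (σ : F ≃+* F) (a : Fˣ) :
    slField σ (torus a) = torus (Units.map σ.toMonoidHom a) := by
  apply Subtype.ext
  ext i j
  fin_cases i <;> fin_cases j <;> simp [slField_coe, torus_val]

theorem good_psl_even [Fintype F] {n : ℕ} (hn : 2 ≤ n) (hF : Fintype.card F = 2 ^ n) :
    Good (PSLG 2 F) := by
  haveI : Fact (Nat.Prime 2) := ⟨Nat.prime_two⟩
  haveI : CharP F 2 := charP_of_card Nat.prime_two hF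
  haveI : Finite (MulAut (PSLG 2 F)) := Finite.of_injective _ DFunLike.coe_injective
  obtain ⟨φ, hφ, -, hker⟩ := Cfsg.Agent.S2602.result (p := 2) (f := n) (by omega) hF (by
    calc 4 = 2 ^ 2 := by norm_num
      _ ≤ 2 ^ n := Nat.pow_le_pow_right two_pos hn)
  have hodd : Odd (2 ^ n - 1) := Nat.Even.sub_odd Nat.one_le_two_pow
    (Nat.even_pow.2 ⟨even_two, by omega⟩) odd_one
  have hk1 : Nat.card φ.ker = 1 := hker.trans (Nat.coprime_two_left.2 hodd)
  haveI : NeZero n := ⟨by omega⟩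
  rcases Nat.even_or_odd n with hev | hno
  swap
  · refine good_of_no_involution ?_
    rw [natCard_eq_ker_mul φ hφ, hk1, natCard_zmod, one_mul]
    exact fun h => (Nat.not_even_iff_odd.2 hno) (even_iff_two_dvd.2 h)
  obtain ⟨e⟩ := nonempty_ringAut_equiv hF
  haveI : Finite (F ≃+* F) := Finite.of_equiv _ e.symm.toEquiv
  obtain ⟨s, hs⟩ := exists_prime_orderOf_dvd_card' (G := F ≃+* F) 2 (by
    rw [Nat.card_congr e.toEquiv, natCard_zmod]; exact even_iff_two_dvd.1 hev)
  have hss : s ^ 2 = 1 := by rw [← hs, pow_orderOf_eq_one]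
  have hs1 : s ≠ 1 := fun h => by simp [h] at hs
  obtain ⟨a₀, ha₀⟩ : ∃ a, s a ≠ a := by
    by_contra h
    push Not at h
    exact hs1 (RingEquiv.ext h)
  let a : Fˣ := Units.mk0 a₀ (fun h => ha₀ (by rw [h, map_zero]))
  let π : SLG 2 F →* PSLG 2 F := QuotientGroup.mk' _
  have hσ2 : (fieldAut s : MulAut (PSLG 2 F)) ^ 2 = 1 := by rw [← map_pow, hss, map_one]
  refine good_of_witness (isConj_of_odd_ker φ (by rw [hk1]; exact odd_one)) (σ := fieldAut s) ?_
    (by rw [hσ2]; exact one_mem _) ⟨((π.comp upper).range), π (torus a), 1, 2 ^ n - 1, ?_⟩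
  · intro h
    obtain ⟨g, hg⟩ := inn_le_range h
    refine hs1 (eq_one_of_conj_field le_rfl (g := g⁻¹) ?_).2
    rw [map_inv, hg, inv_mul_cancel]
  have hd : π (torus a) * fieldAut s (π (torus a))⁻¹ =
      π (torus (a * (Units.map s.toMonoidHom a)⁻¹)) := by
    rw [map_mul torus, map_mul π, ← map_inv π, show fieldAut s (π (torus a)⁻¹) = π (slField s (torus a)⁻¹) from rfl,
      ← map_inv torus, field_torus, map_inv, map_inv]
  refine ⟨by rw [pow_one, hσ2], isPGroup_two_of_mul_self _ ?_, ?_, ?_, ?_, hodd, ?_, ?_⟩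
  · rintro _ ⟨x, rfl⟩
    rw [← map_mul]
    convert map_one (π.comp upper) using 2
    exact Multiplicative.toAdd.injective (CharTwo.add_self_eq_zero _)
  · have key : ∀ x y : F, π (upper (Multiplicative.ofAdd x)) = π (upper (Multiplicative.ofAdd y)) → x = y := by
      intro x y h
      refine sub_eq_zero.1 (upper_eq_one (x := x - y) ?_)
      show π _ = 1
      rw [ofAdd_sub, map_div, map_div, h, div_self']
    have hne : ∀ x : F, x ≠ 0 → π (upper (Multiplicative.ofAdd x)) ≠ 1 := fun x hx h =>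
      hx (upper_eq_one h)
    have hmul : ∀ x : F, π (upper (Multiplicative.ofAdd x)) * π (upper (Multiplicative.ofAdd x)) = 1 :=
      fun x => by rw [← map_mul, ← map_mul, ← ofAdd_add, CharTwo.add_self_eq_zero, ofAdd_zero, map_one, map_one]
    refine not_isCyclic_of_two (s := π (upper (Multiplicative.ofAdd (1 : F))))
      (t := π (upper (Multiplicative.ofAdd a₀))) ⟨_, rfl⟩ ⟨_, rfl⟩
      (orderOf_two (hmul _) (hne _ one_ne_zero)) (orderOf_two (hmul _) (hne _ a.ne_zero)) fun h => ?_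
    exact ha₀ (by rw [← key _ _ h, map_one])
  · rintro _ ⟨x, rfl⟩
    obtain ⟨x, rfl⟩ := Multiplicative.ofAdd.surjective x
    exact ⟨Multiplicative.ofAdd (s x), (congrArg π (field_upper s x)).symm⟩
  · rintro _ ⟨x, rfl⟩
    obtain ⟨x, rfl⟩ := Multiplicative.ofAdd.surjective x
    refine ⟨Multiplicative.ofAdd ((a : F) * a * x), ?_⟩
    show π _ = π _ * π _ * (π _)⁻¹
    rw [← map_inv, ← map_mul, ← map_mul, torus_conj_upper]
  · rw [hd, ← map_pow, ← map_pow]
    have : (a * (Units.map s.toMonoidHom a)⁻¹) ^ (2 ^ n - 1) = 1 := by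
      refine Units.ext ?_
      rw [Units.val_pow_eq_pow_val, Units.val_one, ← hF]
      exact FiniteField.pow_card_sub_one_eq_one _ (Units.ne_zero _)
    rw [this, map_one, map_one]
  · rw [hd]
    intro h
    have h1 := mul_inv_eq_one.1 (torus_eq_one h)
    exact ha₀ (congrArg Units.val h1).symm

end PSL

section PSU

open CfsgLib.AutPSU CfsgLib.ClassicalGroups

variable {F : Type*} [Field F] [Fintype F] {q : ℕ}

/-- The group `μ` of elements of norm one. -/
def normKer (F : Type*) [Field F] (q : ℕ) : Subgroup Fˣ := (powMonoidHom (q + 1) : Fˣ →* Fˣ).ker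

/-- The torus `diag(a, a, a⁻²)` of `SU_3`. -/
def torusU (F : Type*) [Field F] [Fintype F] (q : ℕ) : normKer F q →* SUG 3 F q where
  toFun a := ⟨⟨Matrix.diagonal ![((a : Fˣ) : F), ((a : Fˣ) : F), ((((a : Fˣ) * a)⁻¹ : Fˣ) : F)], by
      rw [Matrix.det_diagonal, Fin.prod_univ_three]
      show ((a : Fˣ) : F) * ((a : Fˣ) : F) * ((((a : Fˣ) * a)⁻¹ : Fˣ) : F) = 1
      rw [← Units.val_mul, Units.mul_inv]⟩, by
    have ha : ((a : Fˣ) : F) ^ (q + 1) = 1 := by
      have h1 : (a : Fˣ) ^ (q + 1) = 1 := a.2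
      rw [← Units.val_pow_eq_pow_val, h1, Units.val_one]
    intro u v
    show hh q (Matrix.diagonal _ *ᵥ u) (Matrix.diagonal _ *ᵥ v) = hh q u v
    simp only [hh, Cfsg.hermForm, Matrix.mulVec_diagonal]
    refine Finset.sum_congr rfl fun i _ => ?_
    have hi : (![((a : Fˣ) : F), ((a : Fˣ) : F), ((((a : Fˣ) * a)⁻¹ : Fˣ) : F)] i) ^ (q + 1) = 1 := by
      fin_cases i
      · exact ha
      · exact ha
      · show ((((a : Fˣ) * a)⁻¹ : Fˣ) : F) ^ (q + 1) = 1
        rw [Units.val_inv_eq_inv_val, inv_pow, Units.val_mul, mul_pow, ha, one_mul, inv_one]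
    rw [mul_pow, mul_mul_mul_comm, ← pow_succ', hi, one_mul]⟩
  map_one' := by
    apply mat_injective
    show Matrix.diagonal _ = (1 : Mat 3 F)
    rw [← Matrix.diagonal_one]
    congr 1
    funext i
    fin_cases i <;> simp
  map_mul' a b := by
    apply mat_injective
    show Matrix.diagonal _ = Matrix.diagonal _ * Matrix.diagonal _
    rw [Matrix.diagonal_mul_diagonal]
    congr 1
    funext i
    fin_cases i <;> simp [mul_comm, mul_left_comm, mul_assoc]

theorem torusU_mat (a : normKer F q) : mat (torusU F q a) =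
    Matrix.diagonal ![((a : Fˣ) : F), ((a : Fˣ) : F), ((((a : Fˣ) * a)⁻¹ : Fˣ) : F)] := rfl

theorem torusU_eq_one (hF : Fintype.card F = q ^ 2) [CharP F 2] {a : normKer F q}
    (h : (QuotientGroup.mk (torusU F q a) : PSUG 3 F q) = 1) : (a : Fˣ) ^ 3 = 1 := by
  obtain ⟨z, hz⟩ := exists_smul_of_mk_eq hF (g := (1 : SUG 3 F q)) (g' := torusU F q a)
    ((QuotientGroup.mk_one _).trans h.symm)
  rw [torusU_mat, mat_one] at hz
  have h0 : ((a : Fˣ) : F) = z := by simpa using congrFun (congrFun hz 0) 0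
  have h2 : ((((a : Fˣ) * a)⁻¹ : Fˣ) : F) = z := by simpa using congrFun (congrFun hz 2) 2
  have h3 : ((a : Fˣ) * a)⁻¹ = (a : Fˣ) := Units.ext (h2.trans h0.symm)
  rw [inv_eq_iff_mul_eq_one] at h3
  rw [pow_succ, pow_two]
  exact h3

theorem good_psu {n : ℕ} (hn : 2 ≤ n) (hF4 : Fintype.card F = 4 ^ n) :
    Good (PSUG 3 F (2 ^ n)) := by
  have hF : Fintype.card F = (2 ^ n) ^ 2 := by rw [hF4, ← pow_mul, mul_comm, pow_mul]; norm_num
  haveI : Fact (Nat.Prime 2) := ⟨Nat.prime_two⟩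
  haveI : CharP F 2 := charP_of_card (f := n * 2) Nat.prime_two (by rw [hF, pow_mul])
  haveI : Finite (MulAut (PSUG 3 F (2 ^ n))) := Finite.of_injective _ DFunLike.coe_injective
  have hq4 : 4 ≤ 2 ^ n := by
    calc 4 = 2 ^ 2 := by norm_num
      _ ≤ 2 ^ n := Nat.pow_le_pow_right two_pos hn
  obtain ⟨φ, -, -, hker⟩ := Cfsg.Agent.S2603.result (p := 2) (f := n) (q := 2 ^ n) (n := 3)
    (by omega) rfl hF le_rfl (fun h => by omega)
  haveI : NeZero (2 * n) := ⟨by omega⟩
  have hq1 : Odd (2 ^ n + 1) := Even.add_one (Nat.even_pow.2 ⟨even_two, by omega⟩)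
  have hkodd : Odd (Nat.card φ.ker) := by
    rw [hker]; exact Odd.of_dvd_nat hq1 (Nat.gcd_dvd_right _ _)
  obtain ⟨g, hg⟩ := IsCyclic.exists_generator (α := Fˣ)
  have hgo : orderOf g = (2 ^ n) ^ 2 - 1 := by
    rw [orderOf_eq_card_of_forall_mem_zpowers hg, Nat.card_units, Nat.card_eq_fintype_card, hF]
  set r := 2 ^ n - 1 with hr
  have hq : 2 ^ n = r + 1 := by omega
  have hgo' : orderOf g = r * (r + 2) := by
    rw [hgo, hq, show (r + 1) ^ 2 = r * (r + 2) + 1 by ring]
    omega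
  have hpow : g ^ (r * (r + 2)) = 1 := by rw [← hgo', pow_orderOf_eq_one]
  have hsmall : ∀ k, 0 < k → k < r * (r + 2) → g ^ k ≠ 1 := fun k h0 hk h => by
    have := Nat.le_of_dvd h0 (orderOf_dvd_iff_pow_eq_one.2 h)
    omega
  have ha : g ^ r ∈ normKer F (2 ^ n) := by
    show (g ^ r) ^ (2 ^ n + 1) = 1
    rw [← pow_mul, hq]
    exact hpow
  let a : normKer F (2 ^ n) := ⟨g ^ r, ha⟩
  have ha3 : (a : Fˣ) ^ 3 ≠ 1 := by
    show (g ^ r) ^ 3 ≠ 1
    rw [← pow_mul]
    exact hsmall _ (by nlinarith) (by nlinarith)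
  let σ : MulAut (PSUG 3 F (2 ^ n)) := fieldU (tau hF)
  have hτ : (tau hF) ^ 2 = (1 : F ≃+* F) := by
    ext x
    rw [pow_two]
    exact tau_tau hF x
  have hσ2 : σ ^ 2 = 1 := by rw [← map_pow, hτ, map_one]
  let π : SUG 3 F (2 ^ n) →* PSUG 3 F (2 ^ n) := QuotientGroup.mk' _
  let t : PSUG 3 F (2 ^ n) := π (torusU F (2 ^ n) a)
  let v : Vec 3 F := ![1, 1, 0]
  have hv : hh (2 ^ n) v v = 0 := by
    simp [hh, Cfsg.hermForm, v, Fin.sum_univ_three, CharTwo.add_self_eq_zero]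
  have hv0 : v ≠ 0 := fun h => by simpa [v] using congrFun h 0
  have hneg : ∀ {s : F}, tau hF s = s → tau hF s = -s := fun {s} h => by rw [h, CharTwo.neg_eq]
  let V : Subgroup (PSUG 3 F (2 ^ n)) :=
    { carrier := {x | ∃ s, tau hF s = s ∧ x = tel (2 ^ n) v s}
      one_mem' := ⟨0, map_zero _, (tel_zero hF hv).symm⟩
      mul_mem' := by
        rintro _ _ ⟨s, hs, rfl⟩ ⟨u, hu, rfl⟩
        exact ⟨s + u, by rw [map_add, hs, hu], (tel_add hF hv (hneg hs) (hneg hu)).symm⟩
      inv_mem' := by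
        rintro _ ⟨s, hs, rfl⟩
        refine ⟨s, hs, inv_eq_of_mul_eq_one_right ?_⟩
        rw [← tel_add hF hv (hneg hs) (hneg hs), CharTwo.add_self_eq_zero, tel_zero hF hv] }
  have hsq : ∀ x ∈ V, x * x = 1 := by
    rintro _ ⟨s, hs, rfl⟩
    rw [← tel_add hF hv (hneg hs) (hneg hs), CharTwo.add_self_eq_zero, tel_zero hF hv]
  have hd : t * σ t⁻¹ = π (torusU F (2 ^ n) (a * a)) := by
    rw [map_mul, map_mul]
    congr 1
    show σ (π (torusU F (2 ^ n) a))⁻¹ = _
    rw [← map_inv, ← map_inv]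
    refine congrArg π (mat_injective ?_)
    show mat (suField (tau hF) (torusU F (2 ^ n) a⁻¹)) = _
    rw [suField_mat, torusU_mat, torusU_mat, Matrix.diagonal_map (map_zero _)]
    congr 1
    have hτu : ∀ u : normKer F (2 ^ n), tau hF ((((u : Fˣ))⁻¹ : Fˣ) : F) = ((u : Fˣ) : F) := by
      intro u
      rw [tau_apply, ← Units.val_pow_eq_pow_val]
      congr 1
      have h1 : (u : Fˣ) ^ (2 ^ n + 1) = 1 := u.2
      rw [inv_pow, inv_eq_iff_mul_eq_one, ← pow_succ]
      exact h1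
    have h' := hτu (a * a)⁻¹
    funext i
    fin_cases i
    · exact hτu a
    · exact hτu a
    · simpa [mul_comm] using h'
  refine good_of_witness (isConj_of_odd_ker φ hkodd) (σ := σ) ?_ (by rw [hσ2]; exact one_mem _)
    ⟨V, t, 1, 2 ^ n + 1, by rw [pow_one, hσ2], isPGroup_two_of_mul_self _ hsq, ?_, ?_, ?_, hq1, ?_, ?_⟩
  · intro h
    obtain ⟨x, hx⟩ := CfsgLib.AutPSU.inn_le_range (m := 1) h
    have h1 := field_eq_one_of_conjU hF le_rfl hx
    obtain ⟨b, hb⟩ := tau_ne hF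
    exact hb (by rw [h1]; rfl)
  · let c : F := ((g ^ (r + 2) : Fˣ) : F)
    have hc : tau hF c = c := by
      rw [tau_apply, ← Units.val_pow_eq_pow_val]
      congr 1
      rw [← pow_mul, hq, show (r + 2) * (r + 1) = r * (r + 2) + (r + 2) by ring, pow_add, hpow, one_mul]
    have hc1 : c ≠ 1 := fun h => hsmall (r + 2) (by omega) (by nlinarith)
      (Units.ext (h.trans Units.val_one.symm))
    have h1 : tel (2 ^ n) v (1 : F) ∈ V := ⟨1, map_one _, rfl⟩
    have h2 : tel (2 ^ n) v c ∈ V := ⟨c, hc, rfl⟩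
    exact not_isCyclic_of_two h1 h2
      (orderOf_two (hsq _ h1) (tel_ne_one hF hv hv0 (hneg (map_one _)) one_ne_zero))
      (orderOf_two (hsq _ h2) (tel_ne_one hF hv hv0 (hneg hc) (Units.ne_zero _)))
      fun h => hc1 (tel_injective hF hv hv0 (hneg (map_one _)) (hneg hc) h).symm
  · rintro _ ⟨s, hs, rfl⟩
    refine ⟨s, hs, ?_⟩
    rw [fieldU_tel hF _ hv (hneg hs), hs]
    congr 1
    funext i
    fin_cases i <;> simp [v]
  · rintro _ ⟨s, hs, rfl⟩
    refine ⟨s, hs, ?_⟩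
    rw [← MulAut.conj_apply]
    show MulAut.conj (QuotientGroup.mk (torusU F (2 ^ n) a) : PSUG 3 F (2 ^ n)) _ = _
    rw [tel_conj hF _ hv (hneg hs)]
    have htv : mat (torusU F (2 ^ n) a) *ᵥ v = ((a : Fˣ) : F) • v := by
      funext i
      fin_cases i <;> simp [torusU_mat, v, Matrix.mulVec_diagonal]
    have hn1 : ((a : Fˣ) : F) * tau hF ((a : Fˣ) : F) = 1 := by
      rw [tau_apply, ← pow_succ', ← Units.val_pow_eq_pow_val, show (a : Fˣ) ^ (2 ^ n + 1) = 1 from a.2,
        Units.val_one]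
    rw [htv, tel_smul hF hv (hneg hs), hn1, mul_one]
  · rw [hd, ← map_pow, ← map_pow]
    have : (a * a) ^ (2 ^ n + 1) = 1 := Subtype.ext ((a * a).2)
    rw [this, map_one, map_one]
  · rw [hd]
    intro h
    refine ha3 ?_
    have h6 : ((a : Fˣ) * a) ^ 3 = 1 := torusU_eq_one hF h
    have h7 : (((a : Fˣ) ^ 3 : Fˣ) : F) * (((a : Fˣ) ^ 3 : Fˣ) : F) = 1 := by
      rw [← Units.val_mul, ← mul_pow, h6, Units.val_one]
    exact Units.ext ((mul_self_eq_one_iff.1 h7).elim id fun e => e.trans (CharTwo.neg_eq 1))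

end PSU

end CfsgLib.CyclicInter
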