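import Cfsg.Agent.Lib.CyclicInter.Almost

/-!
Small facts used for the models of groups with cyclic intersections of Sylow 2-subgroups.
-/

set_option autoImplicit false
set_option linter.style.haveILetI false

open Subgroup

namespace CfsgLib.CyclicInter

theorem natCard_eq_ker_mul {Q : Type*} [Group Q] {C : Type*} [Group C] (φ : Q →* C)
    (hφ : Function.Surjective φ) : Nat.card Q = Nat.card φ.ker * Nat.card C := by
  rw [card_eq_card_quotient_mul_card_subgroup φ.ker,
    Nat.card_congr (QuotientGroup.quotientKerEquivOfSurjective φ hφ).toEquiv, mul_comm]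

theorem natCard_zmod (n : ℕ) : Nat.card (Multiplicative (ZMod n)) = n := by
  rw [Nat.card_congr Multiplicative.toAdd, Nat.card_zmod]

/-- A finite field with `p ^ f` elements has characteristic `p`. -/
theorem charP_of_card {F : Type*} [Field F] [Fintype F] {p f : ℕ} (hp : p.Prime)
    (hF : Fintype.card F = p ^ f) : CharP F p := by
  obtain ⟨p', hc⟩ := CharP.exists F
  haveI := hc
  obtain ⟨k, hp', hk⟩ := FiniteField.card F p'
  rw [hk] at hF
  have h : p' ∣ p ^ f := hF ▸ dvd_pow_self p' k.ne_zero
  rw [← (Nat.prime_dvd_prime_iff_eq hp' hp).1 (hp'.dvd_of_dvd_pow h)]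
  exact hc

theorem orderOf_two {G : Type*} [Group G] {x : G} (h : x * x = 1) (h1 : x ≠ 1) : orderOf x = 2 :=
  haveI : Fact (Nat.Prime 2) := ⟨Nat.prime_two⟩
  orderOf_eq_prime (by rw [pow_two, h]) h1

theorem isPGroup_two_of_mul_self {G : Type*} [Group G] (V : Subgroup G)
    (h : ∀ x ∈ V, x * x = 1) : IsPGroup 2 V :=
  fun x => ⟨1, Subtype.ext (by simpa [pow_two] using h x x.2)⟩

/-- The group generated by two commuting involutions has exponent two. -/
theorem mul_self_of_mem_sup {G : Type*} [Group G] {i j : G} (hi : i * i = 1) (hj : j * j = 1)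
    (hc : Commute i j) {x : G} (hx : x ∈ closure ({i, j} : Set G)) : x * x = 1 ∧ Commute x i ∧ Commute x j := by
  induction hx using closure_induction with
  | mem y hy =>
    rcases hy with rfl | rfl
    · exact ⟨hi, Commute.refl _, hc⟩
    · exact ⟨hj, hc.symm, Commute.refl _⟩
  | one => exact ⟨one_mul 1, Commute.one_left _, Commute.one_left _⟩
  | mul y z hy hz h1 h2 =>
    refine ⟨?_, h1.2.1.mul_left h2.2.1, h1.2.2.mul_left h2.2.2⟩
    have hyz : Commute y z := by
      have : closure ({i, j} : Set G) ≤ centralizer {y} := by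
        rw [closure_le]
        rintro w (rfl | rfl) <;> rw [SetLike.mem_coe, mem_centralizer_singleton_iff]
        · exact h1.2.1.symm.eq
        · exact h1.2.2.symm.eq
      exact (mem_centralizer_singleton_iff.1 (this hz)).symm
    rw [mul_assoc, ← mul_assoc z y z, ← hyz.eq, mul_assoc y z z, h2.1, mul_one, h1.1]
  | inv y hy h1 =>
    rw [inv_eq_of_mul_eq_one_right h1.1]
    exact h1

/-- A map carrying generators into a subgroup carries the generated subgroup into it. -/
theorem map_mem_closure_pair {G : Type*} [Group G] {i j : G} (f : G →* G)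
    (hi : f i ∈ closure ({i, j} : Set G)) (hj : f j ∈ closure ({i, j} : Set G)) {x : G}
    (hx : x ∈ closure ({i, j} : Set G)) : f x ∈ closure ({i, j} : Set G) := by
  have : closure ({i, j} : Set G) ≤ (closure ({i, j} : Set G)).comap f := by
    rw [closure_le]
    rintro w (rfl | rfl)
    · exact hi
    · exact hj
  exact this hx

end CfsgLib.CyclicInter
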